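import Cfsg.Agent.BC85.Balance.RankOneCore
import Cfsg.Agent.SigDown91.OddGenerated
import Cfsg.Agent.OddLocal44.Transitivity
import Cfsg.Agent.Lib.Involution.StronglyEmbedded
import Cfsg.Prelude.Def_CaseTheorems

/-!
# The signalizer method when the centralizers of involutions are 2-constrained

`W = ⟨O(C(x)) : x ∈ X#⟩` is independent of the four-group `X ≤ S`; its normalizer `M` contains the
centralizer of each involution it contains and is therefore the whole group or strongly embedded.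
-/

set_option autoImplicit false

namespace Cfsg.Agent.BC85.Balance

open Subgroup SigDown91

universe u

/-- The theorem of Bender on strongly embedded subgroups in the form used here. -/
def BenderCore : Prop :=
  ∀ (G : Type u) [Group G] [Finite G] (H : Subgroup G), Cfsg.IsStronglyEmbedded H →
    (Cfsg.oddCore ↥H).map H.subtype ≤ Cfsg.oddCore G

variable {G : Type u} [Group G] [Finite G]

theorem conj_map_mem {g x : G} {B : Subgroup G} (hx : x ∈ B) :
    g * x * g⁻¹ ∈ B.map (MulAut.conj g).toMonoidHom := ⟨x, hx, rfl⟩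

theorem gen_map_conj (g : G) (B : Subgroup G) :
    (gen B).map (MulAut.conj g).toMonoidHom = gen (B.map (MulAut.conj g).toMonoidHom) := by
  have hle : ∀ (g : G) (B : Subgroup G),
      (gen B).map (MulAut.conj g).toMonoidHom ≤ gen (B.map (MulAut.conj g).toMonoidHom) := by
    intro g B
    rw [gen, Subgroup.map_iSup]
    refine iSup_le fun b => ?_
    rintro _ ⟨y, hy, rfl⟩
    exact le_gen (conj_map_mem b.2.1) (fun h => b.2.2 (by simpa using h))
      (InvChar68.Signalizer.conj_mem_cpc g hy)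
  refine le_antisymm (hle g B) ?_
  have h := hle g⁻¹ (B.map (MulAut.conj g).toMonoidHom)
  rw [Subgroup.map_map, show (MulAut.conj g⁻¹).toMonoidHom.comp (MulAut.conj g).toMonoidHom =
    MonoidHom.id G from MonoidHom.ext fun x => by simp [mul_assoc], Subgroup.map_id] at h
  intro x hx
  exact ⟨g⁻¹ * x * g⁻¹⁻¹, h ⟨x, hx, rfl⟩, by simp [mul_assoc]⟩

theorem isBig_map_conj (g : G) {B : Subgroup G} (hB : IsBig B) :
    IsBig (B.map (MulAut.conj g).toMonoidHom) := by
  haveI := hB.1.1
  refine ⟨⟨inferInstance, ?_⟩, ?_⟩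
  · rintro _ ⟨x, hx, rfl⟩
    rw [← map_pow, hB.1.2 x hx, map_one]
  · rw [Subgroup.card_map_of_injective (MulAut.conj g).injective]
    exact hB.2

omit [Finite G] in
theorem isBig_commute {B : Subgroup G} (hB : IsBig B) {x y : G} (hx : x ∈ B) (hy : y ∈ B) :
    Commute x y := by
  haveI := hB.1.1
  exact congrArg Subtype.val (mul_comm' (⟨x, hx⟩ : B) ⟨y, hy⟩)

theorem isPGroup_big {B : Subgroup G} (hB : IsBig B) : IsPGroup 2 B :=
  fun x => ⟨1, Subtype.ext (by rw [pow_one, SubgroupClass.coe_pow, hB.1.2 x x.2]; rfl)⟩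

/-- The data from which the method starts. -/
structure Data (S : Sylow 2 G) (W : Subgroup G) : Prop where
  odd : Odd (Nat.card W)
  gen_eq : ∀ X : Subgroup G, IsBig X → X ≤ (S : Subgroup G) → gen X = W
  exists_four : ∀ t ∈ (S : Subgroup G), orderOf t = 2 →
    ∃ X : Subgroup G, IsBig X ∧ X ≤ (S : Subgroup G) ∧ t ∈ X
  exists_eight : ∀ t ∈ (S : Subgroup G), orderOf t = 2 →
    ∃ F : Subgroup G, Cfsg.IsElementaryAbelian 2 F ∧ 8 ≤ Nat.card F ∧ ∀ f ∈ F, Commute t f
  nonempty : ∃ X : Subgroup G, IsBig X ∧ X ≤ (S : Subgroup G)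
  constrained : ∀ j : G, orderOf j = 2 → Cfsg.IsPConstrained 2 ↥(centralizer ({j} : Set G))

namespace Data

variable {S : Sylow 2 G} {W : Subgroup G}

theorem mem_normalizer_of_conj (D : Data S W) {X : Subgroup G} {g : G} (hX : IsBig X)
    (hXS : X ≤ (S : Subgroup G)) (hg : X.map (MulAut.conj g).toMonoidHom ≤ (S : Subgroup G)) :
    g ∈ normalizer (W : Set G) := by
  rw [mem_normalizer_iff_map_conj_eq]
  calc W.map (MulAut.conj g).toMonoidHom = (gen X).map (MulAut.conj g).toMonoidHom := by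
        rw [D.gen_eq X hX hXS]
    _ = W := by rw [gen_map_conj, D.gen_eq _ (isBig_map_conj g hX) hg]

theorem sylow_le (D : Data S W) : (S : Subgroup G) ≤ normalizer (W : Set G) := by
  intro s hs
  obtain ⟨X, hX, hXS⟩ := D.nonempty
  refine D.mem_normalizer_of_conj hX hXS ?_
  rintro _ ⟨x, hx, rfl⟩
  exact mul_mem (mul_mem hs (hXS hx)) (inv_mem hs)

/-- A 2-subgroup of `M` is conjugate in `M` into `S`. -/
theorem exists_conj_le (D : Data S W) {P : Subgroup G} (hP : IsPGroup 2 P)
    (hPM : P ≤ normalizer (W : Set G)) :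
    ∃ m ∈ normalizer (W : Set G), P.map (MulAut.conj m).toMonoidHom ≤ (S : Subgroup G) := by
  set M := normalizer (W : Set G) with hM
  let S' : Sylow 2 M := S.subtype D.sylow_le
  have hP' : IsPGroup 2 (P.subgroupOf M) :=
    hP.of_equiv (Subgroup.subgroupOfEquivOfLe hPM).symm
  obtain ⟨R, hR⟩ := hP'.exists_le_sylow
  obtain ⟨m, hm⟩ := MulAction.exists_smul_eq M R S'
  refine ⟨m, m.2, ?_⟩
  rintro _ ⟨x, hx, rfl⟩
  have h1 : m * ⟨x, hPM hx⟩ * m⁻¹ ∈ (S' : Subgroup M) := by
    rw [← hm, Sylow.coe_subgroup_smul]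
    exact ⟨⟨x, hPM hx⟩, hR hx, rfl⟩
  exact h1

theorem gen_eq_of_le_normalizer (D : Data S W) {X : Subgroup G} (hX : IsBig X)
    (hXM : X ≤ normalizer (W : Set G)) : gen X = W := by
  obtain ⟨m, hm, hle⟩ := D.exists_conj_le (isPGroup_big hX) hXM
  have h := D.gen_eq _ (isBig_map_conj m hX) hle
  rw [← gen_map_conj] at h
  have hm' := mem_normalizer_iff_map_conj_eq.mp hm
  exact Subgroup.map_injective (f := (MulAut.conj m).toMonoidHom) (MulAut.conj m).injective
    (h.trans hm'.symm)

/-- `M ∩ M^g` has 2-rank at most one for `g ∉ M`. -/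
theorem mem_normalizer_of_big (D : Data S W) {X : Subgroup G} {g : G} (hX : IsBig X)
    (hXM : X ≤ normalizer (W : Set G))
    (hg : X.map (MulAut.conj g).toMonoidHom ≤ normalizer (W : Set G)) :
    g ∈ normalizer (W : Set G) := by
  rw [mem_normalizer_iff_map_conj_eq]
  calc W.map (MulAut.conj g).toMonoidHom = (gen X).map (MulAut.conj g).toMonoidHom := by
        rw [D.gen_eq_of_le_normalizer hX hXM]
    _ = W := by rw [gen_map_conj, D.gen_eq_of_le_normalizer (isBig_map_conj g hX) hg]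

theorem cpc_le (D : Data S W) {t : G} (htS : t ∈ (S : Subgroup G)) (ht : orderOf t = 2) :
    Cfsg.centralizerPPrimeCore 2 t ≤ W := by
  obtain ⟨X, hX, hXS, htX⟩ := D.exists_four t htS ht
  rw [← D.gen_eq X hX hXS]
  exact le_gen htX (fun h => by rw [h, orderOf_one] at ht; norm_num at ht)

/-- **The centralizer of an involution of `M` lies in `M`.** -/
theorem centralizer_le (D : Data S W) {t : G} (htS : t ∈ (S : Subgroup G)) (ht : orderOf t = 2) :
    centralizer ({t} : Set G) ≤ normalizer (W : Set G) := by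
  haveI : Fact (Nat.Prime 2) := ⟨Nat.prime_two⟩
  set M := normalizer (W : Set G) with hM
  set C := centralizer ({t} : Set G) with hC
  obtain ⟨X, hX, hXS, htX⟩ := D.exists_four t htS ht
  obtain ⟨F, hF, hF8, hFt⟩ := D.exists_eight t htS ht
  have hXC : X ≤ C := fun x hx => mem_centralizer_singleton_iff.mpr (isBig_commute hX hx htX).eq
  have hFC : F ≤ C := fun x hx => mem_centralizer_singleton_iff.mpr (hFt x hx).symm.eq
  obtain ⟨T, hT⟩ := ((isPGroup_big hX).of_equiv
    (Subgroup.subgroupOfEquivOfLe hXC).symm).exists_le_sylow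
  -- `T` lies in `M`
  have hTM : ∀ y ∈ (T : Subgroup C), (y : G) ∈ M := by
    obtain ⟨S', hS'⟩ := (T.isPGroup'.map C.subtype).exists_le_sylow
    obtain ⟨h, hh⟩ := MulAction.exists_smul_eq G S' S
    have hmap : ∀ y ∈ (S' : Subgroup G), h * y * h⁻¹ ∈ (S : Subgroup G) := by
      intro y hy
      rw [← hh, Sylow.coe_subgroup_smul]
      exact ⟨y, hy, rfl⟩
    have hhM : h ∈ M := by
      refine D.mem_normalizer_of_conj hX hXS ?_
      rintro _ ⟨x, hx, rfl⟩
      exact hmap x (hS' ⟨⟨x, hXC hx⟩, hT hx, rfl⟩)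
    intro y hy
    have h1 : h * (y : G) * h⁻¹ ∈ M := D.sylow_le (hmap _ (hS' ⟨y, hy, rfl⟩))
    have h2 := mul_mem (mul_mem (inv_mem hhM) h1) hhM
    simpa [mul_assoc] using h2
  set O := Cfsg.pPrimeCore 2 ↥C with hO
  have hOM : ∀ y ∈ O, (y : G) ∈ M := fun y hy =>
    Subgroup.le_normalizer (D.cpc_le htS ht ⟨y, hy, rfl⟩)
  set π := QuotientGroup.mk' O with hπ
  have hπs : Function.Surjective π := QuotientGroup.mk'_surjective _
  set P0 := Cfsg.pCore 2 (↥C ⧸ O) with hP0
  set K := P0.comap π with hK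
  haveI : P0.Normal := inferInstance
  haveI hKn : K.Normal := inferInstance
  set P := (T : Subgroup C) ⊓ K with hPdef
  have hcop : (Nat.card O).Coprime 2 := Thompson.card_pPrimeCore_coprime
  have hTO : (T : Subgroup C) ⊓ O = ⊥ :=
    Thompson.inf_eq_bot_of_isPGroup_of_coprime T.isPGroup' hcop
  let Tπ : Sylow 2 (↥C ⧸ O) := T.mapSurjective hπs
  have hP0T : P0 ≤ (T : Subgroup C).map π := by
    have h := Thompson.pCore_le_sylow (p := 2) Tπ
    rwa [Sylow.coe_mapSurjective] at h
  have hKPO : K ≤ P ⊔ O := by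
    intro k hk
    obtain ⟨s, hs, hsk⟩ := hP0T hk
    have hso : s⁻¹ * k ∈ O := QuotientGroup.eq.mp hsk
    have hsK : s ∈ K := by
      show π s ∈ P0
      rw [hsk]
      exact hk
    rw [show k = s * (s⁻¹ * k) by group]
    exact mul_mem (Subgroup.mem_sup_left ⟨hs, hsK⟩) (Subgroup.mem_sup_right hso)
  -- the Frattini argument
  have hfr : normalizer (P : Set C) ⊔ O = ⊤ := by
    have hPK : IsPGroup 2 (P.subgroupOf K) :=
      (T.isPGroup'.to_le inf_le_left).of_equiv (Subgroup.subgroupOfEquivOfLe inf_le_right).symm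
    obtain ⟨R, hR⟩ := hPK.exists_le_sylow
    have hRP : (R : Subgroup K).map K.subtype = P := by
      refine le_antisymm ?_ ?_
      · rintro _ ⟨r, hr, rfl⟩
        have hKsup := hKPO r.2
        rw [Subgroup.mem_sup_of_normal_right] at hKsup
        obtain ⟨p, hp, o, ho, hpo⟩ := hKsup
        have hoK : o ∈ K := by
          show π o ∈ P0
          rw [hπ, QuotientGroup.mk'_apply, (QuotientGroup.eq_one_iff o).mpr ho]
          exact one_mem _
        have hoR : (⟨o, hoK⟩ : K) ∈ (R : Subgroup K) := by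
          have hp' : (⟨p, hp.2⟩ : K) ∈ (R : Subgroup K) := hR hp
          have heq : (⟨o, hoK⟩ : K) = (⟨p, hp.2⟩ : K)⁻¹ * r := Subtype.ext (by
            show o = p⁻¹ * (r : C)
            rw [← hpo]; group)
          rw [heq]
          exact mul_mem (inv_mem hp') hr
        have ho1 : o ∈ ((R : Subgroup K).map K.subtype) ⊓ O := ⟨⟨_, hoR, rfl⟩, ho⟩
        rw [Thompson.inf_eq_bot_of_isPGroup_of_coprime (R.isPGroup'.map _) hcop,
          Subgroup.mem_bot] at ho1
        rw [ho1, mul_one] at hpo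
        show (r : C) ∈ P
        rw [← hpo]
        exact hp
      · intro p hp
        exact ⟨⟨p, hp.2⟩, hR hp, rfl⟩
    have h := Sylow.normalizer_sup_eq_top R
    rw [hRP] at h
    rw [← top_le_iff, ← h]
    refine sup_le le_sup_left (hKPO.trans (sup_le ?_ le_sup_right))
    exact Subgroup.le_normalizer.trans le_sup_left
  suffices hNP : ∀ y ∈ normalizer (P : Set C), (y : G) ∈ M by
    intro g hg
    have hmem : (⟨g, hg⟩ : C) ∈ normalizer (P : Set C) ⊔ O := hfr ▸ Subgroup.mem_top _
    rw [Subgroup.mem_sup_of_normal_right] at hmem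
    obtain ⟨n, hn, o, ho, hno⟩ := hmem
    have : g = (n : G) * (o : G) := (congrArg Subtype.val hno).symm
    rw [this]
    exact mul_mem (hNP n hn) (hOM o ho)
  by_cases hbig : ∃ V : Subgroup G, IsBig V ∧ V ≤ P.map C.subtype
  · obtain ⟨V, hV, hVP⟩ := hbig
    intro y hy
    refine D.mem_normalizer_of_big hV (fun v hv => ?_) ?_
    · obtain ⟨w, hw, rfl⟩ := hVP hv
      exact hTM w hw.1
    · rintro _ ⟨v, hv, rfl⟩
      obtain ⟨w, hw, rfl⟩ := hVP hv
      exact hTM _ ((mem_normalizer_iff.mp hy w).mp hw).1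
  -- `P` has a single involution
  push Not at hbig
  set z : C := ⟨t, mem_centralizer_singleton_iff.mpr rfl⟩ with hz
  have hzP : z ∈ P := by
    refine ⟨hT (show (z : G) ∈ X from htX), ?_⟩
    show π z ∈ P0
    have hzc : zpowers (π z) ≤ center (↥C ⧸ O) := by
      rw [zpowers_le, mem_center_iff]
      intro q
      obtain ⟨c, rfl⟩ := hπs q
      rw [← map_mul, ← map_mul]
      exact congrArg π (Subtype.ext (mem_centralizer_singleton_iff.mp c.2))
    haveI : (zpowers (π z)).Normal := ⟨fun n hn g => by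
      rw [(Subgroup.mem_center_iff.mp (hzc hn) g), mul_inv_cancel_right]; exact hn⟩
    refine Thompson.le_pCore (p := 2) (N := zpowers (π z)) inferInstance ?_ (mem_zpowers _)
    have hz2 : (π z) ^ 2 = 1 := by
      rw [← map_pow, show z ^ 2 = 1 from Subtype.ext (by
        rw [SubgroupClass.coe_pow, hz]
        show t ^ 2 = 1
        rw [← ht]; exact pow_orderOf_eq_one t), map_one]
    rintro ⟨y, hy⟩
    obtain ⟨i, rfl⟩ := mem_zpowers_iff.mp hy
    refine ⟨1, Subtype.ext ?_⟩
    show (π z ^ i) ^ 2 ^ 1 = 1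
    rw [pow_one, ← zpow_natCast, ← zpow_mul, mul_comm, zpow_mul, zpow_natCast, hz2, one_zpow]
  have huniq : ∀ x ∈ P, x ^ 2 = 1 → x = 1 ∨ x = z := by
    intro x hx hx2
    by_contra hne
    push Not at hne
    have hx2' : (x : G) ^ 2 = 1 := congrArg Subtype.val hx2
    obtain ⟨V, hV, hVK, -⟩ := exists_big (K := P.map C.subtype) (x : G) t hx2'
      (by rw [← ht]; exact pow_orderOf_eq_one t) (fun h => hne.1 (Subtype.ext h))
      (fun h => by rw [h, orderOf_one] at ht; norm_num at ht)
      (fun h => hne.2 (Subtype.ext h)) (mem_centralizer_singleton_iff.mp x.2)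
      ⟨x, hx, rfl⟩ ⟨z, hzP, rfl⟩
    exact hbig V hV hVK
  have huniq' : ∀ a ∈ P0, ∀ b ∈ P0, orderOf a = 2 → orderOf b = 2 → a = b := by
    have hlift : ∀ a ∈ P0, orderOf a = 2 → a = π z := by
      intro a ha ha2
      obtain ⟨s, hs, rfl⟩ := hP0T ha
      have hs2 : s ^ 2 = 1 := by
        have hm : s ^ 2 ∈ (T : Subgroup C) ⊓ O := ⟨pow_mem hs 2, (QuotientGroup.eq_one_iff _).mp (by
          show π (s ^ 2) = 1
          have h := pow_orderOf_eq_one (π s)
          rw [ha2] at h
          rw [map_pow]; exact h)⟩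
        rwa [hTO, Subgroup.mem_bot] at hm
      rcases huniq s ⟨hs, ha⟩ hs2 with h | h
      · rw [h, map_one, orderOf_one] at ha2; norm_num at ha2
      · rw [h]
    intro a ha b hb ha2 hb2
    rw [hlift a ha ha2, hlift b hb hb2]
  set Fq := (F.subgroupOf C).map π with hFq
  have hFc : IsMulCommutative Fq := by
    haveI := hF.1
    haveI : IsMulCommutative (F.subgroupOf C) := inferInstance
    rw [hFq]; infer_instance
  have hF2 : ∀ x ∈ Fq, x ^ 2 = 1 := by
    rintro _ ⟨x, hx, rfl⟩
    rw [← map_pow, show x ^ 2 = 1 from Subtype.ext (hF.2 _ (show (x : G) ∈ F from hx)), map_one]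
  have hFp : IsPGroup 2 (F.subgroupOf C) :=
    fun x => ⟨1, Subtype.ext (Subtype.ext (by
      rw [pow_one]; exact hF.2 _ (show ((x : C) : G) ∈ F from x.2)))⟩
  have hFinj : Function.Injective (π.comp (F.subgroupOf C).subtype) := by
    rw [injective_iff_map_eq_one]
    intro x hx
    have h : (x : C) ∈ F.subgroupOf C ⊓ O := ⟨x.2, (QuotientGroup.eq_one_iff _).mp hx⟩
    rw [Thompson.inf_eq_bot_of_isPGroup_of_coprime hFp hcop, Subgroup.mem_bot] at h
    exact Subtype.ext h
  have hFq8 : 8 ≤ Nat.card Fq := by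
    refine hF8.trans (le_of_eq ?_)
    rw [← Nat.card_congr (Subgroup.subgroupOfEquivOfLe hFC).toEquiv]
    exact Nat.card_congr (Equiv.ofBijective (fun x : F.subgroupOf C =>
        (⟨π x, Subgroup.mem_map_of_mem π x.2⟩ : Fq))
      ⟨fun a b h => hFinj (congrArg Subtype.val h), fun ⟨_, x, hx, rfl⟩ => ⟨⟨x, hx⟩, rfl⟩⟩)
  have hcen := OddLocal44.centralizer_pCore_quotient_le (D.constrained t ht)
  have hQ := isPGroup_of_core_rank_one hcen huniq' Fq hFc hF2 hFq8
  have htop : (⊤ : Subgroup (↥C ⧸ O)) ≤ (T : Subgroup C).map π := by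
    have h : (Tπ : Subgroup (↥C ⧸ O)) = ⊤ := (Tπ.3 (hQ.to_subgroup ⊤) le_top).symm
    rw [Sylow.coe_mapSurjective] at h
    exact h.ge
  intro y _
  obtain ⟨s, hs, hsy⟩ := htop (Subgroup.mem_top (π y))
  have hso : s⁻¹ * y ∈ O := QuotientGroup.eq.mp hsy
  have : (y : G) = (s : G) * ((s⁻¹ * y : C) : G) := by simp
  rw [this]
  exact mul_mem (hTM s hs) (hOM _ hso)

/-- `M` is the whole group or strongly embedded. -/
theorem stronglyEmbedded (D : Data S W) (hne : normalizer (W : Set G) ≠ ⊤) :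
    Cfsg.IsStronglyEmbedded (normalizer (W : Set G)) := by
  haveI : Fact (Nat.Prime 2) := ⟨Nat.prime_two⟩
  set M := normalizer (W : Set G) with hM
  rw [Involution.stronglyEmbedded_iff]
  obtain ⟨X₀, hX₀, hX₀S⟩ := D.nonempty
  obtain ⟨a, ha, ha1, -⟩ := exists_ne_ne hX₀.2 1
  refine ⟨hne, Involution.even_card_of_involution (D.sylow_le (hX₀S ha))
    (orderOf_of_sq (hX₀.1.2 a ha) ha1), fun g t htM ht hgt => ?_⟩
  have hzp : ∀ u : G, orderOf u = 2 → IsPGroup 2 (zpowers u) := fun u hu =>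
    IsPGroup.of_card (n := 1) (by rw [Nat.card_zpowers, hu, pow_one])
  obtain ⟨m, hm, hmt⟩ := D.exists_conj_le (hzp t ht) (by rwa [zpowers_le])
  obtain ⟨n, hn, hns⟩ := D.exists_conj_le (hzp _ ((Involution.orderOf_conj g t).trans ht))
    (by rwa [zpowers_le])
  set t' := m * t * m⁻¹ with ht'
  set s := n * (g * t * g⁻¹) * n⁻¹ with hs
  have ht'S : t' ∈ (S : Subgroup G) := hmt (conj_map_mem (mem_zpowers t))
  have hsS : s ∈ (S : Subgroup G) := hns (conj_map_mem (mem_zpowers _))
  set k := n * g * m⁻¹ with hk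
  have hks : k * t' * k⁻¹ = s := by rw [hk, ht', hs]; group
  suffices hkM : k ∈ M by
    have h := mul_mem (mul_mem (inv_mem hn) hkM) hm
    simpa [hk, mul_assoc] using h
  have hto : orderOf t' = 2 := (Involution.orderOf_conj m t).trans ht
  have hso : orderOf s = 2 := by rw [← hks, Involution.orderOf_conj, hto]
  obtain ⟨X, hX, hXS, htX⟩ := D.exists_four t' ht'S hto
  refine D.mem_normalizer_of_big hX (hXS.trans D.sylow_le) ?_
  rintro _ ⟨x, hx, rfl⟩
  refine D.centralizer_le hsS hso (mem_centralizer_singleton_iff.mpr ?_)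
  rw [← hks]
  exact ((isBig_commute hX hx htX).map (MulAut.conj k).toMonoidHom).eq

/-- **The core of each centralizer of an involution is trivial.** -/
theorem cpc_eq_bot (D : Data S W) (hB : BenderCore.{u}) (hO : Cfsg.oddCore G = ⊥)
    {t : G} (ht : orderOf t = 2) : Cfsg.centralizerPPrimeCore 2 t = ⊥ := by
  haveI : Fact (Nat.Prime 2) := ⟨Nat.prime_two⟩
  set M := normalizer (W : Set G) with hM
  have hW : W = ⊥ := by
    by_cases hne : M = ⊤
    · haveI : W.Normal := normalizer_eq_top_iff.mp hne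
      rw [← le_bot_iff, ← hO]
      exact Thompson.le_pPrimeCore inferInstance (Nat.coprime_two_right.mpr D.odd)
    · have hle := hB G M (D.stronglyEmbedded hne)
      rw [hO, le_bot_iff] at hle
      have hsub : W.subgroupOf M ≤ Cfsg.oddCore ↥M := by
        haveI : (W.subgroupOf M).Normal := Subgroup.normal_in_normalizer
        refine Thompson.le_pPrimeCore inferInstance (Nat.coprime_two_right.mpr (D.odd.of_dvd_nat ?_))
        exact dvd_of_eq (Nat.card_congr (Subgroup.subgroupOfEquivOfLe Subgroup.le_normalizer).toEquiv)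
      have h := Subgroup.map_mono (f := M.subtype) hsub
      rw [Subgroup.map_subgroupOf_eq_of_le Subgroup.le_normalizer, hle, le_bot_iff] at h
      exact h
  obtain ⟨R, hR⟩ := (IsPGroup.of_card (p := 2) (n := 1) (G := zpowers t)
    (by rw [Nat.card_zpowers, ht, pow_one])).exists_le_sylow
  obtain ⟨g, hg⟩ := MulAction.exists_smul_eq G R S
  have hgt : g * t * g⁻¹ ∈ (S : Subgroup G) := by
    rw [← hg, Sylow.coe_subgroup_smul]
    exact ⟨t, hR (mem_zpowers t), rfl⟩
  refine InvChar68.Signalizer.cpc_eq_bot_of_conj g (le_bot_iff.mp ?_)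
  rw [← hW]
  exact D.cpc_le hgt ((Involution.orderOf_conj g t).trans ht)

end Data

end Cfsg.Agent.BC85.Balance
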