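import Cfsg.Agent.BC85.Balance.Core
import Cfsg.Agent.Lib.Components.SignalizerConsequences
import Cfsg.Agent.Lib.Involution.NormalFour
import Cfsg.Agent.SFT45.Final
import Cfsg.Agent.PF14.Compose
import Cfsg.Agent.S1292
import Mathlib.GroupTheory.SpecificGroups.KleinFour

/-!
# Where the data of the signalizer method come from
-/

set_option autoImplicit false
set_option linter.style.haveILetI false

namespace Cfsg.Agent.BC85.Balance

open Subgroup SigDown91

universe u

variable {G : Type u} [Group G] [Finite G]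

/-- A group all of whose quotients by the core have no component is 2-constrained. -/
theorem isPConstrained_of_no_component {H : Type u} [Group H] [Finite H]
    (h : ¬ Cfsg.HasComponent (H ⧸ Cfsg.oddCore H)) : Cfsg.IsPConstrained 2 H := by
  haveI : Fact (Nat.Prime 2) := ⟨Nat.prime_two⟩
  rw [Components.isPConstrained_iff_pLayer_eq_bot, Components.pLayer_eq_bot_iff,
    Components.layer_eq_bot_iff]
  exact fun L hL => h ⟨L, hL.1, hL.2⟩

theorem isPConstrained_of_solvable {H : Type u} [Group H] [Finite H] (h : Group.IsSolvable H) :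
    Cfsg.IsPConstrained 2 H := by
  refine isPConstrained_of_no_component ?_
  rintro ⟨L, hL1, hL2⟩
  haveI := h
  haveI : Group.IsSolvable (H ⧸ Cfsg.oddCore H) :=
    Group.isSolvable_of_surjective (QuotientGroup.mk'_surjective _)
  exact Components.component_not_isSolvable (L := L) ⟨hL1, hL2⟩ inferInstance

/-- Balance makes the core function a solvable signalizer functor on an elementary abelian group. -/
theorem odd_gen (hcon : ∀ j : G, orderOf j = 2 → Cfsg.IsPConstrained 2 ↥(centralizer ({j} : Set G)))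
    {F : Subgroup G} (hF : Cfsg.IsElementaryAbelian 2 F) (h8 : 8 ≤ Nat.card F) :
    Odd (Nat.card (gen F)) := by
  haveI : Fact (Nat.Prime 2) := ⟨Nat.prime_two⟩
  haveI := hF.1
  have hc : ∀ a ∈ F, ∀ b ∈ F, Commute a b := fun a ha b hb =>
    congrArg Subtype.val (mul_comm' (⟨a, ha⟩ : F) ⟨b, hb⟩)
  have hfun : Cfsg.IsSolvableSignalizerFunctor 2 F (Cfsg.centralizerPPrimeCore (G := G) 2) := by
    refine ⟨⟨fun a _ _ => InvChar68.Signalizer.cpc_le a, fun a _ _ h => ?_,
      fun a ha _ b hb x hx => ?_, fun a ha ha1 b hb hb1 => ?_⟩,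
      fun a _ _ => PF14.feitThompson _ (InvChar68.Signalizer.cpc_odd a)⟩
    · exact (Nat.not_even_iff_odd.mpr (InvChar68.Signalizer.cpc_odd a)) (even_iff_two_dvd.mpr h)
    · exact (mem_normalizer_iff.mp (InvChar68.Signalizer.le_normalizer_cpc a
        (mem_centralizer_singleton_iff.mpr (hc b hb a ha).eq)) x).mp hx
    · exact balance ⟨1, by rw [pow_one]; exact orderOf_of_sq (hF.2 a ha) ha1⟩
        (hcon b (orderOf_of_sq (hF.2 b hb) hb1)) (hc a ha b hb)
  obtain ⟨W, hW, hle⟩ := SFT45.completable_of_odd hF (le_trans (by norm_num) h8) hfun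
    fun a _ _ => InvChar68.Signalizer.cpc_odd a
  have hle' : gen F ≤ W := iSup_le fun ⟨a, ha, ha1⟩ => hle a ha ha1
  refine Nat.not_even_iff_odd.mp fun h => hW.2.1 ?_
  exact (even_iff_two_dvd.mp h).trans (Subgroup.card_dvd_of_le hle')

/-- Commuting big subgroups have the same `gen`. -/
theorem gen_le_gen (hcon : ∀ j : G, orderOf j = 2 → Cfsg.IsPConstrained 2 ↥(centralizer ({j} : Set G)))
    {V U : Subgroup G} (hV : Cfsg.IsElementaryAbelian 2 V) (hU : IsBig U)
    (hc : ∀ v ∈ V, ∀ u ∈ U, Commute v u) : gen V ≤ gen U :=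
  iSup_le fun ⟨a, ha, ha1⟩ =>
    cpc_le_gen hcon ⟨1, by rw [pow_one]; exact orderOf_of_sq (hV.2 a ha) ha1⟩ hU (hc a ha)

theorem gen_eq_of_le (hcon : ∀ j : G, orderOf j = 2 → Cfsg.IsPConstrained 2 ↥(centralizer ({j} : Set G)))
    {V U : Subgroup G} (hV : IsBig V) (hU : IsBig U) (hUV : U ≤ V) : gen V = gen U :=
  le_antisymm (gen_le_gen hcon hV.1 hU fun _ hv _ hu => isBig_commute hV hv (hUV hu))
    (gen_le_gen hcon hU.1 hV fun _ hu _ hv => isBig_commute hV (hUV hu) hv)

omit [Finite G] in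
theorem not_pRankLE_one {B : Subgroup G} (hB : IsBig B) : ¬ Cfsg.PRankLE 2 1 ↥B := by
  intro h
  haveI := hB.1.1
  have h1 := h ⊤ inferInstance fun x _ => Subtype.ext (hB.1.2 x x.2)
  rw [Subgroup.card_top] at h1
  have := hB.2
  omega

/-- A 2-group elementary abelian subgroup of order at least 8 inside a given Sylow subgroup. -/
theorem exists_eight_le_sylow (h3 : ¬ Cfsg.PRankLE 2 2 G) (S : Sylow 2 G) :
    ∃ F : Subgroup G, F ≤ (S : Subgroup G) ∧ Cfsg.IsElementaryAbelian 2 F ∧ 8 ≤ Nat.card F := by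
  haveI : Fact (Nat.Prime 2) := ⟨Nat.prime_two⟩
  unfold Cfsg.PRankLE at h3
  push Not at h3
  obtain ⟨A, hA, hA2, hAc⟩ := h3
  have hAel : Cfsg.IsElementaryAbelian 2 A := ⟨hA, hA2⟩
  have hAp : IsPGroup 2 A := fun x => ⟨1, Subtype.ext (by
    rw [pow_one, SubgroupClass.coe_pow, hA2 x x.2]; rfl)⟩
  obtain ⟨R, hR⟩ := hAp.exists_le_sylow
  obtain ⟨g, hg⟩ := MulAction.exists_smul_eq G R S
  haveI := hA
  refine ⟨A.map (MulAut.conj g).toMonoidHom, ?_, ⟨inferInstance, ?_⟩, ?_⟩
  · rintro _ ⟨x, hx, rfl⟩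
    rw [← hg, Sylow.coe_subgroup_smul]
    exact ⟨x, hR hx, rfl⟩
  · rintro _ ⟨x, hx, rfl⟩
    rw [← map_pow, hA2 x hx, map_one]
  · rw [Subgroup.card_map_of_injective (MulAut.conj g).injective]
    exact Components.pow_three_le hAel hAc

theorem exists_big_card_four_le {V : Subgroup G} (hV : IsBig V) :
    ∃ U : Subgroup G, U ≤ V ∧ IsBig U ∧ Nat.card U = 4 := by
  haveI : Fact (Nat.Prime 2) := ⟨Nat.prime_two⟩
  obtain ⟨n, hn⟩ := IsPGroup.iff_card.mp (isPGroup_big hV)
  have h2 : 2 ≤ n := by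
    have := hV.2
    rw [hn] at this
    by_contra h
    push Not at h
    interval_cases n <;> simp at this
  obtain ⟨K, hK⟩ := Sylow.exists_subgroup_card_pow_prime (G := V) 2 (n := 2)
    (by rw [hn]; exact pow_dvd_pow 2 h2)
  haveI := hV.1.1
  have hc : Nat.card (K.map V.subtype) = 4 := by
    rw [Subgroup.card_map_of_injective V.subtype_injective, hK]; norm_num
  refine ⟨K.map V.subtype, map_subtype_le _, ⟨⟨inferInstance, ?_⟩, hc.ge⟩, hc⟩
  rintro _ ⟨x, -, rfl⟩
  exact hV.1.2 x x.2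

/-- **The data from a connected Sylow subgroup.** -/
theorem exists_data_of_connected
    (hcon : ∀ j : G, orderOf j = 2 → Cfsg.IsPConstrained 2 ↥(centralizer ({j} : Set G)))
    (h3 : ¬ Cfsg.PRankLE 2 2 G) (S : Sylow 2 G) (hS : Cfsg.IsFourConnected ↥(S : Subgroup G)) :
    ∃ W : Subgroup G, Data S W := by
  haveI : Fact (Nat.Prime 2) := ⟨Nat.prime_two⟩
  obtain ⟨F, hFS, hF, hF8⟩ := exists_eight_le_sylow h3 S
  have hFb : IsBig F := ⟨hF, le_trans (by norm_num) hF8⟩
  obtain ⟨U₀, hU₀F, hU₀, hU₀4⟩ := exists_big_card_four_le hFb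
  -- Klein four-subgroups of `S` and big subgroups of `G`
  have hklein : ∀ U : Subgroup ↥(S : Subgroup G), IsKleinFour U →
      IsBig (U.map (S : Subgroup G).subtype) := by
    intro U hU
    have hsq : ∀ x : U, x * x = 1 := fun x => IsKleinFour.mul_self x
    haveI : IsMulCommutative U := ⟨⟨fun a b => by
      have ha := inv_eq_of_mul_eq_one_right (hsq a)
      have hb := inv_eq_of_mul_eq_one_right (hsq b)
      have hab := inv_eq_of_mul_eq_one_right (hsq (a * b))
      rw [mul_inv_rev, ha, hb] at hab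
      exact hab.symm⟩⟩
    refine ⟨⟨inferInstance, ?_⟩, ?_⟩
    · rintro _ ⟨x, hx, rfl⟩
      rw [pow_two, ← map_mul]
      have h := congrArg Subtype.val (hsq ⟨x, hx⟩)
      exact (congrArg (S : Subgroup G).subtype h).trans (map_one _)
    · rw [Subgroup.card_map_of_injective (S : Subgroup G).subtype_injective, hU.card_four]
  have hback : ∀ V : Subgroup G, IsBig V → V ≤ (S : Subgroup G) → Nat.card V = 4 →
      IsKleinFour ↥(V.subgroupOf (S : Subgroup G)) := by
    intro V hV hVS h4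
    refine IsKleinFour.mk ?_ ?_
    · rw [Nat.card_congr (Subgroup.subgroupOfEquivOfLe hVS).toEquiv, h4]
    · have hnt : Nontrivial ↥(V.subgroupOf (S : Subgroup G)) := by
        rw [← Finite.one_lt_card_iff_nontrivial,
          Nat.card_congr (Subgroup.subgroupOfEquivOfLe hVS).toEquiv, h4]
        norm_num
      refine (Monoid.exponent_eq_prime_iff Nat.prime_two).mpr fun g hg => orderOf_eq_prime ?_ hg
      exact Subtype.ext (Subtype.ext (hV.1.2 _ g.2))
  -- the invariant carried along the graph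
  let R : Subgroup ↥(S : Subgroup G) → Prop := fun U =>
    gen (U.map (S : Subgroup G).subtype) = gen F ∧ ∃ E : Subgroup G,
      Cfsg.IsElementaryAbelian 2 E ∧ 8 ≤ Nat.card E ∧ U.map (S : Subgroup G).subtype ≤ E
  have hR : ∀ U : Subgroup ↥(S : Subgroup G), IsKleinFour U → R U := by
    intro U hU
    have hU₀S : U₀ ≤ (S : Subgroup G) := hU₀F.trans hFS
    have hstart : R (U₀.subgroupOf (S : Subgroup G)) := by
      have h : (U₀.subgroupOf (S : Subgroup G)).map (S : Subgroup G).subtype = U₀ :=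
        Subgroup.map_subgroupOf_eq_of_le hU₀S
      exact ⟨by rw [h]; exact (gen_eq_of_le hcon hFb hU₀ hU₀F).symm, F, hF, hF8, by rw [h]; exact hU₀F⟩
    induction hS _ U (hback U₀ hU₀ hU₀S hU₀4) hU with
    | refl => exact hstart
    | @tail A B _ hAB ih =>
      obtain ⟨hA, hB, hcomm⟩ := hAB
      obtain ⟨hgen, E, hE, hE8, hAE⟩ := ih hA
      have hc : ∀ a ∈ A.map (S : Subgroup G).subtype, ∀ b ∈ B.map (S : Subgroup G).subtype,
          Commute a b := by
        rintro _ ⟨a, ha, rfl⟩ _ ⟨b, hb, rfl⟩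
        exact congrArg Subtype.val (hcomm a ha b hb)
      refine ⟨(le_antisymm (gen_le_gen hcon (hklein B hB).1 (hklein A hA)
        fun b hb a ha => (hc a ha b hb).symm)
        (gen_le_gen hcon (hklein A hA).1 (hklein B hB) hc)).trans hgen, ?_⟩
      set A' := A.map (S : Subgroup G).subtype with hA'
      set B' := B.map (S : Subgroup G).subtype with hB'
      rcases lt_or_ge 4 (Nat.card (A' ⊔ B' : Subgroup G)) with hlt | hge
      · have hel := Components.sup_elementary (hklein A hA).1 (hklein B hB).1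
          fun a ha b hb => (hc a ha b hb).eq
        exact ⟨_, hel, Components.pow_three_le hel hlt, le_sup_right⟩
      · have h1 : A' = A' ⊔ B' := Subgroup.eq_of_le_of_card_ge le_sup_left
          (hge.trans (hklein A hA).2)
        exact ⟨E, hE, hE8, le_trans (le_of_le_of_eq le_sup_right h1.symm) hAE⟩
  have hgenall : ∀ X : Subgroup G, IsBig X → X ≤ (S : Subgroup G) → gen X = gen F := by
    intro X hX hXS
    obtain ⟨U, hUX, hU, hU4⟩ := exists_big_card_four_le hX
    have h := (hR _ (hback U hU (hUX.trans hXS) hU4)).1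
    rw [Subgroup.map_subgroupOf_eq_of_le (hUX.trans hXS)] at h
    rw [gen_eq_of_le hcon hX hU hUX, h]
  -- an involution of the centre of `S`
  obtain ⟨z, -, hzc, hz2⟩ := Involution.exists_central_mem_normal (p := 2) S.isPGroup'
    (⊤ : Subgroup ↥(S : Subgroup G)) (by
      intro h
      have h1 := Subgroup.card_le_of_le hFS
      rw [← Subgroup.card_top (G := ↥(S : Subgroup G)), h, Subgroup.card_bot] at h1
      omega)
  have hzo : orderOf (z : G) = 2 := by rw [Subgroup.orderOf_coe, hz2]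
  have hzS : ∀ x ∈ (S : Subgroup G), Commute (z : G) x := fun x hx =>
    (congrArg Subtype.val (Subgroup.mem_center_iff.mp hzc ⟨x, hx⟩)).symm
  have hfour : ∀ t ∈ (S : Subgroup G), orderOf t = 2 →
      ∃ X : Subgroup G, IsBig X ∧ X ≤ (S : Subgroup G) ∧ t ∈ X := by
    intro t htS ht
    have ht2 : t ^ 2 = 1 := by rw [← ht]; exact pow_orderOf_eq_one t
    have ht1 : t ≠ 1 := fun h => by rw [h, orderOf_one] at ht; norm_num at ht
    by_cases htz : t = z
    · obtain ⟨v, hv, hv1, hvt⟩ := exists_ne_ne hFb.2 t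
      obtain ⟨X, hX, hXS, htX, -⟩ := exists_big t v ht2 (hF.2 v hv) ht1 hv1 (Ne.symm hvt)
        (htz ▸ hzS v (hFS hv)) htS (hFS hv)
      exact ⟨X, hX, hXS, htX⟩
    · obtain ⟨X, hX, hXS, htX, -⟩ := exists_big t (z : G) ht2
        (by have h := pow_orderOf_eq_one ((z : ↥(S : Subgroup G)) : G); rwa [hzo] at h) ht1
        (fun h => by rw [h, orderOf_one] at hzo; norm_num at hzo) htz (hzS t htS).symm htS z.2
      exact ⟨X, hX, hXS, htX⟩
  refine ⟨gen F, odd_gen hcon hF hF8, hgenall, hfour, fun t htS ht => ?_, ⟨F, hFb, hFS⟩, hcon⟩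
  obtain ⟨X, hX, hXS, htX⟩ := hfour t htS ht
  obtain ⟨n, hn⟩ := IsPGroup.iff_card.mp (isPGroup_big hX)
  by_cases hX8 : 8 ≤ Nat.card X
  · exact ⟨X, hX.1, hX8, fun f hf => isBig_commute hX htX hf⟩
  have hX4 : Nat.card X = 4 := by
    have h4 := hX.2
    rw [hn] at hX8 h4 ⊢
    have hn3 : n < 3 := by
      by_contra h
      exact hX8 (le_trans (by norm_num) (Nat.pow_le_pow_right (by norm_num : 1 ≤ 2) (not_lt.mp h)))
    interval_cases n <;> simp at h4 ⊢
  obtain ⟨-, E, hE, hE8, hXE⟩ := hR _ (hback X hX hXS hX4)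
  rw [Subgroup.map_subgroupOf_eq_of_le hXS] at hXE
  exact ⟨E, hE, hE8, fun f hf => isBig_commute ⟨hE, le_trans (by norm_num) hE8⟩ (hXE htX) hf⟩

/-- **The data from a normal elementary abelian subgroup of order at least 8.** -/
theorem exists_data_of_normal
    (hcon : ∀ j : G, orderOf j = 2 → Cfsg.IsPConstrained 2 ↥(centralizer ({j} : Set G)))
    (S : Sylow 2 G) {Ω : Subgroup G} (hΩ : Cfsg.IsElementaryAbelian 2 Ω) (h8 : 8 ≤ Nat.card Ω)
    (hΩS : Ω ≤ (S : Subgroup G)) (hn : ∀ s ∈ (S : Subgroup G), ∀ x ∈ Ω, s * x * s⁻¹ ∈ Ω) :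
    ∃ W : Subgroup G, Data S W := by
  have hΩb : IsBig Ω := ⟨hΩ, le_trans (by norm_num) h8⟩
  have key : ∀ t ∈ (S : Subgroup G), orderOf t = 2 →
      ∃ E : Subgroup G, Cfsg.IsElementaryAbelian 2 E ∧ 8 ≤ Nat.card E ∧ t ∈ E ∧
        E ≤ (S : Subgroup G) := by
    intro t htS ht
    have ht2 : t ^ 2 = 1 := by rw [← ht]; exact pow_orderOf_eq_one t
    by_cases htΩ : t ∈ Ω
    · exact ⟨Ω, hΩ, h8, htΩ, hΩS⟩
    have h4 := four_le_fixed hΩ h8 ht2 (hn t htS)
    set V := Ω ⊓ centralizer ({t} : Set G) with hV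
    haveI := hΩ.1
    have hVel : Cfsg.IsElementaryAbelian 2 V :=
      ⟨⟨⟨fun a b => Subtype.ext (congrArg Subtype.val (mul_comm' (⟨a, a.2.1⟩ : Ω) ⟨b, b.2.1⟩) :)⟩⟩,
        fun x hx => hΩ.2 x hx.1⟩
    have hZ : Cfsg.IsElementaryAbelian 2 (zpowers t) := by
      refine ⟨inferInstance, ?_⟩
      rintro _ ⟨i, rfl⟩
      show (t ^ i) ^ 2 = 1
      rw [← zpow_natCast, ← zpow_mul, mul_comm, zpow_mul, zpow_natCast, ht2, one_zpow]
    have hel : Cfsg.IsElementaryAbelian 2 (zpowers t ⊔ V : Subgroup G) := by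
      haveI : Fact (Nat.Prime 2) := ⟨Nat.prime_two⟩
      refine Components.sup_elementary hZ hVel fun a ha v hv => ?_
      obtain ⟨i, rfl⟩ := mem_zpowers_iff.mp ha
      exact (Commute.zpow_left (show Commute t v from
        (mem_centralizer_singleton_iff.mp hv.2).symm) i).eq
    have hlt : 4 < Nat.card (zpowers t ⊔ V : Subgroup G) := by
      refine lt_of_le_of_lt h4 (lt_of_le_of_ne (Subgroup.card_le_of_le le_sup_right) fun he => htΩ ?_)
      have heq : V = zpowers t ⊔ V := Subgroup.eq_of_le_of_card_ge le_sup_right he.ge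
      have htV : t ∈ V := heq.symm ▸ Subgroup.mem_sup_left (mem_zpowers t)
      exact htV.1
    haveI : Fact (Nat.Prime 2) := ⟨Nat.prime_two⟩
    exact ⟨_, hel, Components.pow_three_le hel hlt, Subgroup.mem_sup_left (mem_zpowers t),
      sup_le (by rwa [zpowers_le]) (inf_le_left.trans hΩS)⟩
  refine ⟨gen Ω, odd_gen hcon hΩ h8, fun X hX hXS => ?_, fun t htS ht => ?_, fun t htS ht => ?_,
    ⟨Ω, hΩb, hΩS⟩, hcon⟩
  · exact (SigDown91.gen_eq hcon S.isPGroup' hΩ h8 hΩS hn hXS (not_pRankLE_one hX)).symm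
  · obtain ⟨E, hE, hE8, htE, hES⟩ := key t htS ht
    exact ⟨E, ⟨hE, le_trans (by norm_num) hE8⟩, hES, htE⟩
  · obtain ⟨E, hE, hE8, htE, -⟩ := key t htS ht
    exact ⟨E, hE, hE8, fun f hf => isBig_commute ⟨hE, le_trans (by norm_num) hE8⟩ htE hf⟩

/-- A normal elementary abelian subgroup from a normal abelian subgroup of rank at least three. -/
theorem exists_normal_eight (S : Sylow 2 G) (A : Subgroup ↥(S : Subgroup G)) (hAn : A.Normal)
    (hAab : IsMulCommutative ↥A) (hA3 : ¬ Cfsg.PRankLE 2 2 ↥A) :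
    ∃ Ω : Subgroup G, Cfsg.IsElementaryAbelian 2 Ω ∧ 8 ≤ Nat.card Ω ∧ Ω ≤ (S : Subgroup G) ∧
      ∀ s ∈ (S : Subgroup G), ∀ x ∈ Ω, s * x * s⁻¹ ∈ Ω := by
  haveI := hAab
  haveI : Fact (Nat.Prime 2) := ⟨Nat.prime_two⟩
  let Ω₁ : Subgroup ↥(S : Subgroup G) :=
    { carrier := {x | x ∈ A ∧ x ^ 2 = 1}
      one_mem' := ⟨one_mem A, one_pow _⟩
      mul_mem' := fun {x y} hx hy => ⟨mul_mem hx.1 hy.1, by
        rw [(show Commute x y from congrArg Subtype.val (mul_comm' (⟨x, hx.1⟩ : A) ⟨y, hy.1⟩)).mul_pow,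
          hx.2, hy.2, one_mul]⟩
      inv_mem' := fun {x} hx => ⟨inv_mem hx.1, by rw [inv_pow, hx.2, inv_one]⟩ }
  haveI : IsMulCommutative Ω₁ := ⟨⟨fun x y => Subtype.ext
    (congrArg Subtype.val (mul_comm' (⟨x, x.2.1⟩ : A) ⟨y, y.2.1⟩) :)⟩⟩
  have hΩ : Cfsg.IsElementaryAbelian 2 (Ω₁.map (S : Subgroup G).subtype) := by
    refine ⟨inferInstance, ?_⟩
    rintro _ ⟨x, hx, rfl⟩
    rw [← map_pow, hx.2, map_one]
  refine ⟨_, hΩ, Components.pow_three_le hΩ ?_, map_subtype_le _, ?_⟩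
  · rw [Subgroup.card_map_of_injective (S : Subgroup G).subtype_injective]
    unfold Cfsg.PRankLE at hA3
    push Not at hA3
    obtain ⟨E, -, hE2, hEc⟩ := hA3
    have hle : E.map A.subtype ≤ Ω₁ := by
      rintro _ ⟨x, hx, rfl⟩
      exact ⟨x.2, by rw [← map_pow, hE2 x hx, map_one]⟩
    have h1 := Subgroup.card_le_of_le hle
    rw [Subgroup.card_map_of_injective A.subtype_injective] at h1
    omega
  · rintro s hs _ ⟨x, hx, rfl⟩
    refine ⟨⟨s, hs⟩ * x * (⟨s, hs⟩)⁻¹, ⟨hAn.conj_mem x hx.1 _, ?_⟩, rfl⟩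
    rw [conj_pow, hx.2]
    group

/-- With trivial cores and constrained centralizers the group has characteristic 2 type. -/
theorem characteristicTwoType (heven : Even (Nat.card G))
    (hcon : ∀ j : G, orderOf j = 2 → Cfsg.IsPConstrained 2 ↥(centralizer ({j} : Set G)))
    (hθ : ∀ t : G, orderOf t = 2 → Cfsg.centralizerPPrimeCore 2 t = ⊥) :
    Cfsg.IsCharacteristicTwoType G := by
  haveI : Fact (Nat.Prime 2) := ⟨Nat.prime_two⟩
  refine ⟨heven, fun T hT hT1 => ?_⟩
  have hF : Cfsg.generalizedFittingSubgroup ↥(normalizer (T : Set G)) =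
      Cfsg.pCore 2 ↥(normalizer (T : Set G)) := by
    refine S1292.result (fun t ht => ?_) T hT hT1
    refine S1292.generalizedFitting_eq_pCore_of_centralizer_le ?_
    set C := centralizer ({t} : Set G) with hC
    have hO : Cfsg.pPrimeCore 2 ↥C = ⊥ :=
      (Subgroup.map_eq_bot_iff_of_injective _ C.subtype_injective).mp (hθ t ht)
    set π := QuotientGroup.mk' (Cfsg.pPrimeCore 2 ↥C) with hπ
    have hinj : Function.Injective π := by
      rw [← MonoidHom.ker_eq_bot_iff, QuotientGroup.ker_mk', hO]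
    have hmap := Thompson.map_pCore_equiv (p := 2)
      (MulEquiv.ofBijective π ⟨hinj, QuotientGroup.mk'_surjective _⟩)
    intro c hc
    have h1 : π c ∈ Cfsg.pCore 2 (↥C ⧸ Cfsg.pPrimeCore 2 ↥C) := by
      refine OddLocal44.centralizer_pCore_quotient_le (hcon t ht) ?_
      rw [Subgroup.mem_centralizer_iff]
      intro y hy
      rw [SetLike.mem_coe, ← hmap] at hy
      obtain ⟨w, hw, rfl⟩ := hy
      show π w * π c = π c * π w
      rw [← map_mul, ← map_mul, Subgroup.mem_centralizer_iff.mp hc w hw]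
    rw [← hmap] at h1
    obtain ⟨w, hw, hwc⟩ := h1
    exact (hinj hwc) ▸ hw
  show Subgroup.centralizer (Cfsg.pCore 2 ↥(normalizer (T : Set G)) : Set ↥(normalizer (T : Set G))) ≤
    Cfsg.pCore 2 ↥(normalizer (T : Set G))
  rw [← hF]
  exact Components.centralizer_generalizedFitting_le

end Cfsg.Agent.BC85.Balance
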