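import Cfsg.Agent.BC85.Balance.Instances
import Cfsg.Agent.Class49.CharTwoLocal

/-!
# Conclusions of the signalizer method (modulo the theorem of Bender)
-/

set_option autoImplicit false
set_option linter.style.haveILetI false

namespace Cfsg.Agent.BC85.Balance

open Subgroup

universe u

variable {G : Type u} [Group G] [Finite G]

theorem cores_trivial_scn (hB : BenderCore.{u})
    (hcon : ∀ j : G, orderOf j = 2 → Cfsg.IsPConstrained 2 ↥(centralizer ({j} : Set G)))
    (hO : Cfsg.oddCore G = ⊥) (S : Sylow 2 G) (A : Subgroup ↥(S : Subgroup G)) (hAn : A.Normal)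
    (hAab : IsMulCommutative ↥A) (hA3 : ¬ Cfsg.PRankLE 2 2 ↥A) {t : G} (ht : orderOf t = 2) :
    Cfsg.centralizerPPrimeCore 2 t = ⊥ := by
  obtain ⟨Ω, hΩ, h8, hΩS, hn⟩ := exists_normal_eight S A hAn hAab hA3
  obtain ⟨W, D⟩ := exists_data_of_normal hcon S hΩ h8 hΩS hn
  exact D.cpc_eq_bot hB hO ht

/-- The statement of S3332. -/
theorem solvable_centralizers (hB : BenderCore.{u}) (hO : Cfsg.oddCore G = ⊥) (S : Sylow 2 G)
    (A : Subgroup G) (hAS : A ≤ S) (hAn : (A.subgroupOf S).Normal) (hAc : IsMulCommutative A)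
    (hA3 : ¬ Cfsg.PRankLE 2 2 A)
    (hsol : ∀ t : G, orderOf t = 2 → Group.IsSolvable (Subgroup.centralizer ({t} : Set G)))
    (t : G) (ht : orderOf t = 2) :
    Cfsg.oddCore (Subgroup.centralizer ({t} : Set G)) = ⊥ := by
  have hA3' : ¬ Cfsg.PRankLE 2 2 ↥(A.subgroupOf (S : Subgroup G)) := by
    intro h
    refine hA3 fun E hE hE2 => ?_
    let e : ↥(A.subgroupOf (S : Subgroup G)) ≃* ↥A := Subgroup.subgroupOfEquivOfLe hAS
    have h1 := h (E.map e.symm.toMonoidHom) (by haveI := hE; infer_instance) (by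
      rintro _ ⟨x, hx, rfl⟩
      rw [← map_pow, hE2 x hx, map_one])
    rwa [Subgroup.card_map_of_injective e.symm.injective] at h1
  have h := cores_trivial_scn hB (fun j hj => isPConstrained_of_solvable (hsol j hj)) hO S
    (A.subgroupOf (S : Subgroup G)) hAn (by haveI := hAc; infer_instance) hA3' ht
  exact (Subgroup.map_eq_bot_iff_of_injective _ (Subgroup.subtype_injective _)).mp h

/-- The statement of S3109. -/
theorem constrained_locals [IsSimpleGroup G] (hB : BenderCore.{u})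
    (h2c : ∀ T : Subgroup G, IsPGroup 2 T → T ≠ ⊥ →
      Cfsg.IsPConstrained 2 ↥(Subgroup.normalizer (T : Set G)))
    (S : Sylow 2 G) (A : Subgroup ↥(S : Subgroup G)) (hAn : A.Normal)
    (hAab : IsMulCommutative ↥A) (hA3 : ¬ Cfsg.PRankLE 2 2 ↥A) {t : G} (ht : orderOf t = 2) :
    Cfsg.centralizerPPrimeCore 2 t = ⊥ := by
  haveI : Fact (Nat.Prime 2) := ⟨Nat.prime_two⟩
  have hcon : ∀ j : G, orderOf j = 2 →
      Cfsg.IsPConstrained 2 ↥(centralizer ({j} : Set G)) := by
    intro j hj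
    rw [← Class49.normalizer_zpowers_of_orderOf_two hj]
    refine h2c _ (IsPGroup.of_card (n := 1) (by rw [Nat.card_zpowers, hj, pow_one])) ?_
    intro h
    rw [zpowers_eq_bot] at h
    rw [h, orderOf_one] at hj
    omega
  have hO : Cfsg.oddCore G = ⊥ := by
    rcases (inferInstance : (Cfsg.oddCore G).Normal).eq_bot_or_eq_top with h | h
    · exact h
    · exfalso
      have h1 : (Nat.card (Cfsg.oddCore G)).Coprime 2 := Thompson.card_pPrimeCore_coprime
      rw [h, Subgroup.card_top, Nat.coprime_two_right] at h1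
      exact (Nat.not_even_iff_odd.mpr h1) (even_iff_two_dvd.mpr (ht ▸ orderOf_dvd_natCard t))
  exact cores_trivial_scn hB hcon hO S A hAn hAab hA3 ht

theorem even_card_of_rank (h3 : ¬ Cfsg.PRankLE 2 2 G) : Even (Nat.card G) := by
  haveI : Fact (Nat.Prime 2) := ⟨Nat.prime_two⟩
  obtain ⟨S⟩ := (inferInstance : Nonempty (Sylow 2 G))
  obtain ⟨F, -, hF, h8⟩ := exists_eight_le_sylow h3 S
  obtain ⟨n, hn⟩ := IsPGroup.iff_card.mp (Signal38.isPGroup_of_elementary (p := 2) hF)
  refine even_iff_two_dvd.mpr (dvd_trans ?_ (Subgroup.card_subgroup_dvd_card F))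
  rw [hn] at h8 ⊢
  refine dvd_pow_self 2 fun h => ?_
  rw [h] at h8
  norm_num at h8

/-- The statement of S0504. -/
theorem connected_characteristicTwoType (hB : BenderCore.{u}) (h3 : ¬ Cfsg.PRankLE 2 2 G)
    (hO : Cfsg.oddCore G = ⊥) (hc : ¬ Cfsg.IsComponentType G) (S : Sylow 2 G)
    (hS : Cfsg.IsFourConnected (S : Subgroup G)) : Cfsg.IsCharacteristicTwoType G := by
  have hcon : ∀ j : G, orderOf j = 2 → Cfsg.IsPConstrained 2 ↥(centralizer ({j} : Set G)) :=
    fun j hj => isPConstrained_of_no_component fun h => hc ⟨j, hj, h⟩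
  obtain ⟨W, D⟩ := exists_data_of_connected hcon h3 S hS
  exact characteristicTwoType (even_card_of_rank h3) hcon fun t ht => D.cpc_eq_bot hB hO ht

end Cfsg.Agent.BC85.Balance
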