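import Cfsg.Agent.S0016
import Cfsg.Agent.FPFStructure.QuatAut
import Cfsg.Agent.Lib.Thompson.Cores
import Cfsg.Prelude.Def_Local
import Mathlib.GroupTheory.SpecificGroups.Cyclic

/-!
A group whose self-centralizing 2-core has a single involution and which contains an elementary
abelian subgroup of order 8 is a 2-group.
-/

set_option autoImplicit false

namespace Cfsg.Agent.BC85.Balance

open Subgroup

/-- The automorphisms of a cyclic 2-group form a 2-group. -/
theorem isPGroup_mulAut_cyclic {P : Type*} [Group P] [Finite P] (hP : IsPGroup 2 P) [IsCyclic P] :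
    IsPGroup 2 (MulAut P) := by
  haveI : Fact (Nat.Prime 2) := ⟨Nat.prime_two⟩
  obtain ⟨k, hk⟩ := IsPGroup.iff_card.mp hP
  have hcard := IsCyclic.card_mulAut P
  cases k with
  | zero =>
    refine IsPGroup.of_card (n := 0) ?_
    rw [hcard, hk]
    simp
  | succ j =>
    refine IsPGroup.of_card (n := j) ?_
    rw [hcard, hk, Nat.totient_prime_pow_succ Nat.prime_two]
    norm_num

/-- A finite group in which every element of odd order is trivial is a 2-group. -/
theorem isPGroup_two_of_odd_trivial {Q : Type*} [Group Q] [Finite Q]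
    (h : ∀ x : Q, Odd (orderOf x) → x = 1) : IsPGroup 2 Q := by
  haveI : Fact (Nat.Prime 2) := ⟨Nat.prime_two⟩
  rw [IsPGroup.iff_card]
  by_contra hne
  obtain ⟨n, m, hm, hnm⟩ := Nat.exists_eq_pow_mul_and_not_dvd (Nat.card_pos (α := Q)).ne' 2 (by decide)
  have hm1 : m ≠ 1 := fun h1 => hne ⟨n, by rw [hnm, h1, mul_one]⟩
  obtain ⟨q, hq, hqm⟩ := Nat.exists_prime_and_dvd hm1
  have hq2 : q ≠ 2 := fun h2 => hm (h2 ▸ hqm)
  haveI := Fact.mk hq
  obtain ⟨x, hx⟩ := exists_prime_orderOf_dvd_card' (G := Q) q (hnm ▸ hqm.mul_left _)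
  have hxodd : Odd (orderOf x) := hx ▸ hq.odd_of_ne_two hq2
  have h1 : orderOf x = 1 := orderOf_eq_one_iff.mpr (h x hxodd)
  rw [hx] at h1
  exact hq.one_lt.ne' h1

/-- **The rank one case.** -/
theorem isPGroup_of_core_rank_one {Q : Type*} [Group Q] [Finite Q]
    (hcen : Subgroup.centralizer (Cfsg.pCore 2 Q : Set Q) ≤ Cfsg.pCore 2 Q)
    (huniq : ∀ x ∈ Cfsg.pCore 2 Q, ∀ y ∈ Cfsg.pCore 2 Q, orderOf x = 2 → orderOf y = 2 → x = y)
    (F : Subgroup Q) (hFc : IsMulCommutative F) (hF2 : ∀ x ∈ F, x ^ 2 = 1) (h8 : 8 ≤ Nat.card F) :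
    IsPGroup 2 Q := by
  haveI : Fact (Nat.Prime 2) := ⟨Nat.prime_two⟩
  set P := Cfsg.pCore 2 Q with hPdef
  have hPp : IsPGroup 2 P := Thompson.isPGroup_pCore
  haveI hPn : P.Normal := inferInstance
  set φ : Q →* MulAut P := MulAut.conjNormal with hφ
  have hker : ∀ x : Q, φ x = 1 ↔ x ∈ Subgroup.centralizer (P : Set Q) := by
    intro x
    constructor
    · intro h
      rw [Subgroup.mem_centralizer_iff]
      intro y hy
      have h1 := congrArg (fun e : MulAut P => ((e ⟨y, hy⟩ : P) : Q)) h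
      simp only [MulAut.one_apply, hφ, MulAut.conjNormal_apply] at h1
      exact ((mul_inv_eq_iff_eq_mul).mp h1).symm
    · intro h
      ext y
      simp only [MulAut.one_apply, hφ, MulAut.conjNormal_apply]
      rw [← Subgroup.mem_centralizer_iff.mp h y y.2, mul_inv_cancel_right]
  refine isPGroup_two_of_odd_trivial fun x hx => ?_
  by_contra hx1
  have hφx : φ x ≠ 1 := by
    intro h
    obtain ⟨m, hm⟩ := IsPGroup.iff_orderOf.mp hPp ⟨x, hcen ((hker x).mp h)⟩
    rw [Subgroup.orderOf_mk] at hm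
    rw [hm] at hx
    rcases m with _ | m
    · exact hx1 (orderOf_eq_one_iff.mp (by rw [hm, pow_zero]))
    · exact (Nat.not_even_iff_odd.mpr hx) ⟨2 ^ m, by rw [pow_succ]; ring⟩
  have hφodd : Odd (orderOf (φ x)) := hx.of_dvd_nat (orderOf_map_dvd φ x)
  -- a single subgroup of order two
  have huniq' : ∀ H K : Subgroup P, Nat.card H = 2 → Nat.card K = 2 → H = K := by
    intro H K hH hK
    obtain ⟨a, ha⟩ := exists_prime_orderOf_dvd_card' (G := H) 2 (dvd_of_eq hH.symm)
    obtain ⟨b, hb⟩ := exists_prime_orderOf_dvd_card' (G := K) 2 (dvd_of_eq hK.symm)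
    have hab : (a : P) = (b : P) := Subtype.ext (huniq _ (a : P).2 _ (b : P).2
      (by rw [Subgroup.orderOf_coe, Subgroup.orderOf_coe, ha])
      (by rw [Subgroup.orderOf_coe, Subgroup.orderOf_coe, hb]))
    have h1 : Subgroup.zpowers (a : P) = H := Subgroup.eq_of_le_of_card_ge (by simp)
      (by rw [Nat.card_zpowers, Subgroup.orderOf_coe, ha, hH])
    have h2 : Subgroup.zpowers (b : P) = K := Subgroup.eq_of_le_of_card_ge (by simp)
      (by rw [Nat.card_zpowers, Subgroup.orderOf_coe, hb, hK])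
    rw [← h1, ← h2, hab]
  rcases S0016.result 2 hPp huniq' with hcyc | ⟨-, n, ⟨e⟩⟩
  · -- cyclic
    obtain ⟨m, hm⟩ := IsPGroup.iff_orderOf.mp (isPGroup_mulAut_cyclic hPp) (φ x)
    rw [hm] at hφodd
    rcases m with _ | m
    · exact hφx (orderOf_eq_one_iff.mp (by rw [hm, pow_zero]))
    · exact (Nat.not_even_iff_odd.mpr hφodd) ⟨2 ^ m, by rw [pow_succ]; ring⟩
  let c : MulAut P ≃* MulAut (QuaternionGroup (2 ^ n)) := MulAut.congr e
  by_cases hn : n = 1
  swap
  · have := FPFStructure.quat_aut_trivial hn (c (φ x)) (by rwa [c.orderOf_eq])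
    exact hφx (c.injective (by rw [this, map_one]))
  subst hn
  -- the quaternion group of order 8
  obtain ⟨f, hf⟩ := FPFStructure.exists_aut_quat_hom
  let ψ : MulAut P →* Equiv.Perm (Fin 4) := f.comp c.toMonoidHom
  have hψ : Function.Injective ψ := hf.comp c.injective
  have hP8 : Nat.card P = 8 := by
    rw [Nat.card_congr e.toEquiv, Nat.card_eq_fintype_card, QuaternionGroup.card]
    norm_num
  -- the centre of `P` has order at most two
  have hCP : Nat.card (Subgroup.centralizer (P : Set Q)) ≤ 2 := by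
    have hmap : ∀ y ∈ Subgroup.centralizer (P : Set Q), ∀ hy : y ∈ P,
        (e ⟨y, hy⟩) ∈ Subgroup.center (QuaternionGroup (2 ^ 1)) := by
      intro y hy hyP
      rw [Subgroup.mem_center_iff]
      intro g
      obtain ⟨p, rfl⟩ := e.surjective g
      rw [← map_mul, ← map_mul]
      exact congrArg e (Subtype.ext (Subgroup.mem_centralizer_iff.mp hy p p.2))
    have hinj : Function.Injective (fun y : Subgroup.centralizer (P : Set Q) =>
        (⟨e ⟨y, hcen y.2⟩, hmap y y.2 (hcen y.2)⟩ :
          Subgroup.center (QuaternionGroup (2 ^ 1)))) := by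
      intro a b hab
      have h := congrArg Subtype.val (e.injective (congrArg Subtype.val hab))
      exact Subtype.ext h
    refine (Nat.card_le_card_of_injective _ hinj).trans ?_
    rw [Nat.card_eq_fintype_card]
    decide +kernel
  -- the image of `F P` is too large
  set R := F ⊔ P with hR
  have hRp : IsPGroup 2 R := by
    refine IsPGroup.to_sup_of_normal_right ?_ hPp
    exact fun y => ⟨1, Subtype.ext (by rw [pow_one, SubgroupClass.coe_pow, hF2 y y.2]; rfl)⟩
  have hFP : Nat.card (F ⊓ P : Subgroup Q) ≤ 2 := by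
    classical
    have hsub : ((F ⊓ P : Subgroup Q) : Set Q) ⊆
        insert 1 {y : Q | y ∈ P ∧ orderOf y = 2} := by
      intro y hy
      by_cases hy1 : y = 1
      · exact Or.inl hy1
      · exact Or.inr ⟨hy.2, orderOf_eq_prime (hF2 y hy.1) hy1⟩
    have h1 := Set.ncard_le_ncard hsub (Set.toFinite _)
    have h2 : {y : Q | y ∈ P ∧ orderOf y = 2}.ncard ≤ 1 :=
      (Set.ncard_le_one (Set.toFinite _)).mpr fun a ha b hb => huniq a ha.1 b hb.1 ha.2 hb.2
    have h3 := Set.ncard_insert_le (1 : Q) {y : Q | y ∈ P ∧ orderOf y = 2}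
    have h4 : ((F ⊓ P : Subgroup Q) : Set Q).ncard = Nat.card (F ⊓ P : Subgroup Q) :=
      (Nat.card_coe_set_eq _).symm
    omega
  have hR32 : 32 ≤ Nat.card R := by
    have h1 : Nat.card F * Nat.card P = Nat.card R * Nat.card (F ⊓ P : Subgroup Q) := by
      have a2 : Nat.card P * P.relIndex R = Nat.card R := by
        rw [← Nat.card_congr (Subgroup.subgroupOfEquivOfLe (le_sup_right : P ≤ R)).toEquiv,
          Subgroup.relIndex, Subgroup.card_mul_index]
      have a3 : Nat.card (F ⊓ P : Subgroup Q) * P.relIndex F = Nat.card F := by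
        rw [← Nat.card_congr (Subgroup.subgroupOfEquivOfLe (inf_le_left : F ⊓ P ≤ F)).toEquiv,
          Subgroup.inf_subgroupOf_left, Subgroup.relIndex, Subgroup.card_mul_index]
      rw [hR, Subgroup.relIndex_sup_right] at a2
      rw [← a3, hR, ← a2]
      ring
    nlinarith
  -- cardinalities of the image in `Sym(4)`
  let g : R →* Equiv.Perm (Fin 4) := ψ.comp (φ.comp R.subtype)
  have hgk : Nat.card g.ker ≤ 2 := by
    refine le_trans ?_ hCP
    refine Nat.card_le_card_of_injective (fun y : g.ker =>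
      (⟨((y : R) : Q), (hker _).mp (hψ (by rw [map_one]; exact y.2))⟩ :
        Subgroup.centralizer (P : Set Q))) ?_
    intro a b hab
    exact Subtype.ext (Subtype.ext (congrArg (fun z : Subgroup.centralizer (P : Set Q) => (z : Q)) hab))
  have hcg : Nat.card R = Nat.card g.ker * Nat.card g.range := by
    rw [← Subgroup.index_ker, Subgroup.card_mul_index]
  have h16 : 16 ≤ Nat.card g.range := by nlinarith
  have hdvd : Nat.card g.range ∣ 24 := by
    have := Subgroup.card_subgroup_dvd_card g.range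
    rwa [Nat.card_perm, Nat.card_fin] at this
  obtain ⟨j, hj⟩ := IsPGroup.iff_card.mp (hRp.of_surjective g.rangeRestrict g.rangeRestrict_surjective)
  rw [hj] at h16 hdvd
  have hj3 : j ≤ 3 := by
    by_contra hcon
    have h : (2 : ℕ) ^ 4 ∣ 24 := (pow_dvd_pow 2 (by omega)).trans hdvd
    norm_num at h
  interval_cases j <;> simp at h16

end Cfsg.Agent.BC85.Balance
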